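import Cfsg.Agent.Lib.Spor.TC.Signed

/-!
An excluded extension of the centralizer, case 0 2 1: tables found by a computer search.
-/

set_option autoImplicit false
set_option maxRecDepth 100000

namespace CfsgLib.Spor.HSType.Cert.H021

open CfsgLib.Spor.TC

def edgeTbl : Tbl :=
  (.bin (.bin (.tip 0x150001630001400015000011000142000130000610001200013300011000120000020001120000400008500010000028000000001080000f0000370000e0000f00000e0000e4000000000e60000c0000d1000070000c10000a0000b3000090000a30000800009000004000082000070000120000600007100005000063000040000500000100004200001000015000030000000000200003000000000004000000000020000100002000000000010) (.tip 0xd0001750000b000064000320000ba0003c00006a0000b0003c4000090000540002400009a000070003b90003a0000c9000360003a0000390000c700034000390000380000d600037000388000350003760003600007900035000360000060003580003400007700033000340000060003360003200006400031000327000300003130002f0003050002e0002f20002d0002e40002c0002d70002b0002c30002a0002b4000290002a900028000293)) (.bin (.tip 0x2700028000026000270000250002620000500025800024000054000230002440002300005500022000230000040002240000f0001a00000d0001220000d000061000130000da0000c0001da0001a0000270001a0001f20001e0001aa00021000177000200002130001f0002000001e0001f2000020001e60001d0001310001c0001d30001b0001c0000030001b20001a000026000190001a80001800019600001000188000170000b100016000173)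 (.tip 0x10000100000a0001800010a000190001940004500019a000450004540000e00045800044000193000430004400004200043200041000428000400004130003f0004000003b0003f20003b0000d90003e0003ba000380000d7000380002140003d00038a0003d0002140003e0000d90003a0003e00003d0000d7000390003d0)))

def nodeTbl : Tbl :=
  (.bin (.bin (.tip 0x1e20000260001c30001b00000320001980001860000180001630001530001400001120001230001100000220000080000e00000060000c10000710000a3000093000080000042000061000053000040000012000020000010000000000000) (.tip 0xe80004300004220004180004030003f0)) (.bin (.tip 0x3b20003a00003900000b40000790003600003400003780003560003500000680003300000660003170003030002f50002e20002d40002c70002b30002a40002990002830002700002600002520000580002340002200000440002030001f0) .none))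

def rowTbl : Tbl :=
  .none

/-- The relators. -/
def rels : List (List ℕ) := [
  [0, 0, 0, 0],
  [2, 2, 2, 2, 2, 2, 2],
  [4, 4, 4],
  [4, 2, 5, 3, 3],
  [4, 0, 5, 1],
  [0, 2, 0, 3, 1, 2, 1, 3],
  [0, 2, 2, 0, 3, 3, 1, 2, 2, 1, 3, 3],
  [2, 0, 3, 2, 2, 0, 3, 3, 2, 1, 3, 2, 2, 1, 3, 3],
  [2, 2, 2, 0, 3, 3, 3, 2, 2, 1, 3, 3, 2, 2, 1, 3, 3, 2, 1, 3, 2, 1, 3, 2, 1, 3, 1],
  [6, 4, 7, 4],
  [6, 0, 7, 0],
  [6, 2, 0, 3, 7, 2, 2, 1, 3, 3],
  [6, 6],
  [2, 6, 2, 6, 2, 6],
  [8, 4, 9, 5],
  [8, 0, 9, 0],
  [8, 8, 1, 1],
  [8, 6, 8, 6, 1],
  [8, 2, 0, 0, 3, 9, 4, 3, 7, 4, 2, 5, 3, 7, 4, 2],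
  [8, 3, 5, 6, 2, 9, 2, 2, 1, 3, 3, 2, 2, 1, 3, 3],
  [8, 2, 0, 3, 8, 2, 0, 3, 8, 2, 0, 3, 5, 7]]

/-- The generators of the subgroup. -/
def subs : List (List ℕ) := [[2], [4]]

/-- The certificate. -/
noncomputable def cert : Cert :=
  ⟨10, rels, subs, edgeTbl.get 44, nodeTbl.get 24, rowTbl.get 20⟩

/-- The word traced into the subgroup. -/
def target : List ℕ := [0, 0]

end CfsgLib.Spor.HSType.Cert.H021
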