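import Cfsg.Agent.Lib.Spor.HSType.Cert.H021.Data

/-!
Checks of a part of the derivation.
-/

set_option autoImplicit false

namespace CfsgLib.Spor.HSType.Cert.H021

open CfsgLib.Spor.TC

def scodes0 : List ℕ := [
  0x1,
  0x1,
  0x10000100003,
  0x10000200003,
  0x1,
  0x2000040000a00004000010000100002,
  0x1000080000200003000010000500002,
  0x1,
  0x1,
  0x1,
  0x1,
  0x100005000020001000012000140001600006000010000600002,
  0x1,
  0x1,
  0x1,
  0x1,
  0x1,
  0x1,
  0x1,
  0x25000080002600002000010000a00002,
  0x1,
  0xc000260002a00003000010000b00002,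
  0x1,
  0x3000010002e00002000010001100002,
  0x190000f0000d0001000003000020000400002,
  0x1,
  0x1,
  0x1,
  0x13000110000f0000400034000360003800005000020000600002,
  0x1,
  0x1,
  0x1,
  0x1,
  0x1f0001d0001b000190000f00004000340003c0003e000400004200007000020000700002,
  0x1,
  0x1,
  0x1,
  0x300046000480004a00004000020001200002,
  0x1,
  0x1,
  0x1,
  0x3700035000330000a0004e000500005200005000030000600002,
  0x1,
  0x1,
  0x1,
  0x1,
  0x410003f0003d0003b0003300056000580005a0005c00005000030000c00002,
  0x4c0005600002000030000d00002,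
  0x570006000004,
  0x560006000004,
  0x510004f0004d0000c0000600002000170002200006000040000600002,
  0x23000660005400004,
  0x390006800004,
  0x380006800004,
  0x640000a0002b00002000040000b00002,
  0x1,
  0x1,
  0x11000700007200003000050000500002,
  0x1,
  0x730007600003000060000300002,
  0x1,
  0x1,
  0x1,
  0x1,
  0x1,
  0x1,
  0x1,
  0x1,
  0x1,
  0x1,
  0x1,
  0x1,
  0x1,
  0x1,
  0x130007a0007c0007e00080000820008400086000880008a0008c0008e0009000092000940000f000060001300002,
  0x1,
  0x1,
  0x15000980009a00003000070000b00002,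
  0x1,
  0x1,
  0x150009e000a000003000070001000002,
  0x1,
  0x1,
  0x6a0009e000a4000a600004000070001200002,
  0x1,
  0x210009b000aa00003000080000b00002,
  0x1,
  0x21000a1000ae00003000080001000002,
  0x1,
  0x1b00031000120007700004000090000500002,
  0x77000b400004,
  0x1,
  0x13000b50001e00020000b8000020000c0000400002,
  0xb8000ba0009500004,
  0x95000bc00004,
  0x44000be00069000030000c0000500002,
  0x1,
  0x23000ab000c2000030000d0000b00002,
  0x1,
  0x23000af000c6000030000d0001000002,
  0x5e000bf000c3000020000e0000a00002,
  0xa8000c3000020000e0000d00002,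
  0xc9000cc00004,
  0xc3000cc00004,
  0xb10002200024000c7000020000e0001100002,
  0xc7000d200004,
  0x1,
  0x1,
  0x1,
  0x1,
  0x1,
  0x1,
  0x4a000620005a0005c000cd000d0000d3000d6000d8000da000dc000de000e0000080000e0001500002,
  0x1,
  0xe300027000e4000020000f0000f00002,
  0x4a0006d00029000e4000020000f0001100002,
  0xe7000e5000e800004,
  0x3000034000360006b000d3000d6000d8000da000dc000de000e0000e2000e9000470000f000110001500002,
  0x2e000eb0004500004,
  0x2000ee00004]

set_option maxRecDepth 100000 in
theorem steps0 : cert.SStepsOK 0 120 :=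
  Cert.SStepsOK.of_check _ (codes := scodes0) (by decide +kernel)

end CfsgLib.Spor.HSType.Cert.H021
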